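import Cfsg.Agent.Lib.MinBlock.PermIdem
import Cfsg.Agent.Lib.BrauerPairs.Basic
import Cfsg.Agent.Lib.Blocks.Defect
import Cfsg.Agent.Lib.BlockHeights.CharTools
import Cfsg.Agent.Lib.BrauerPairs.Maximal
import Mathlib.LinearAlgebra.Matrix.Rank

/-!
# A block of least possible dimension is nilpotent

The group algebra of the block, as a permutation module for the square of a Sylow subgroup, lives
on one orbit, so every fusion of Brauer pairs is made inside the Sylow subgroup.
-/

set_option autoImplicit false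
set_option linter.unusedSectionVars false
set_option linter.style.haveILetI false

namespace Cfsg.Agent.Lib.MinBlock

open Cfsg Cfsg.Agent.Lib.Blocks Cfsg.Agent.Lib.BrauerPairs Cfsg.Agent.Lib.Characters
  Cfsg.Agent.Lib.BlockHeights Module
open scoped ComplexConjugate

universe u

/-- Reducing a matrix over a local ring modulo the maximal ideal does not increase its rank. -/
theorem rank_map_residue_le {R : Type*} [CommRing R] [IsLocalRing R] {K : Type*} [Field K]
    (ι : R →+* K) {n : Type*} [Fintype n] [DecidableEq n] (W : Matrix n n R) :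
    (W.map (IsLocalRing.residue R)).rank ≤ (W.map ι).rank := by
  classical
  set Wk := W.map (IsLocalRing.residue R)
  set r := Wk.rank with hr
  let b : Basis (Fin r) _ (LinearMap.range Wk.mulVecLin) := Module.finBasisOfFinrankEq _ _ rfl
  choose u hu using fun j => (b j).2
  let inc : (Fin r → IsLocalRing.ResidueField R) →ₗ[IsLocalRing.ResidueField R]
      (n → IsLocalRing.ResidueField R) :=
    (LinearMap.range Wk.mulVecLin).subtype.comp b.equivFun.symm.toLinearMap
  obtain ⟨π, hπ⟩ := inc.exists_leftInverse_of_injective (LinearMap.ker_eq_bot.2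
    (Subtype.val_injective.comp b.equivFun.symm.injective))
  let Bk : Matrix (Fin r) n (IsLocalRing.ResidueField R) := LinearMap.toMatrix' π
  let Uk : Matrix n (Fin r) (IsLocalRing.ResidueField R) := Matrix.of fun i j => u j i
  have hone : Bk * (Wk * Uk) = 1 := by
    have hWU : Wk * Uk = LinearMap.toMatrix' inc := by
      refine Matrix.ext fun i j => ?_
      have h2 : inc (Pi.single j 1) = ((b j : LinearMap.range Wk.mulVecLin) : n → IsLocalRing.ResidueField R) := by
        show ((b.equivFun.symm (Pi.single j 1) : LinearMap.range Wk.mulVecLin) : n → IsLocalRing.ResidueField R) = _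
        rw [Basis.equivFun_symm_apply]
        simp [Pi.single_apply, ite_smul]
      rw [Matrix.mul_apply, LinearMap.toMatrix'_apply]
      exact congrFun ((hu j).trans h2.symm) i
    rw [hWU, ← LinearMap.toMatrix'_comp, hπ, LinearMap.toMatrix'_id]
  choose B hB using fun i l => IsLocalRing.residue_surjective (Bk i l)
  choose U hU using fun l j => IsLocalRing.residue_surjective (Uk l j)
  set Q : Matrix (Fin r) (Fin r) R := Matrix.of B * (W * Matrix.of U)
  have hQ : (IsLocalRing.residue R).mapMatrix Q = 1 := by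
    rw [← hone, RingHom.mapMatrix_apply, Matrix.map_mul, Matrix.map_mul]
    congr 1
    · exact Matrix.ext hB
    · congr 1
      exact Matrix.ext hU
  have hdet : IsUnit Q.det := by
    refine isUnit_of_map_unit (IsLocalRing.residue R) Q.det ?_
    rw [RingHom.map_det, hQ, Matrix.det_one]
    exact isUnit_one
  have hQK : IsUnit (Q.map ι) :=
    (Matrix.isUnit_iff_isUnit_det _).2 (by rw [← RingHom.mapMatrix_apply, ← RingHom.map_det]; exact hdet.map ι)
  have h1 := Matrix.rank_of_isUnit _ hQK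
  rw [Fintype.card_fin, Matrix.map_mul, Matrix.map_mul] at h1
  calc r = ((Matrix.of B).map ι * (W.map ι * (Matrix.of U).map ι)).rank := h1.symm
    _ ≤ (W.map ι * (Matrix.of U).map ι).rank := Matrix.rank_mul_le_right _ _
    _ ≤ (W.map ι).rank := Matrix.rank_mul_le_left _ _

variable {G : Type u} [Group G] [Fintype G] {M : Ideal AlgInt} [hMp : M.IsPrime] {p : ℕ}
  {B : Set (IrrCharacter G)}

/-- The block idempotent as a translation kernel. -/
noncomputable def blockKer (hM : IsPModular p M) (hB : IsPBlock M B) :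
    Matrix G G (locSubring M) :=
  Matrix.of fun x y => ⟨blockCoeff B (x * y⁻¹), (isRCentral_blockCoeff hM hB).2 _⟩

theorem blockKer_idem (hM : IsPModular p M) (hB : IsPBlock M B) :
    blockKer hM hB * blockKer hM hB = blockKer hM hB := by
  classical
  refine Matrix.ext fun a b => Subtype.ext ?_
  rw [Matrix.mul_apply, AddSubmonoidClass.coe_finsetSum]
  show ∑ c, blockCoeff B (a * c⁻¹) * blockCoeff B (c * b⁻¹) = blockCoeff B (a * b⁻¹)
  conv_rhs => rw [← congrFun (blockCoeff_conv_self B) (a * b⁻¹)]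
  unfold conv
  refine Fintype.sum_equiv ((Equiv.inv G).trans (Equiv.mulLeft a)) _ _ fun c => ?_
  simp [mul_assoc]

theorem card_mul_blockCoeff_one (B : Set (IrrCharacter G)) :
    (Nat.card G : ℂ) * blockCoeff B 1 =
      ((∑ᶠ χ ∈ B, charDegree (χ : G → ℂ) ^ 2 : ℕ) : ℂ) := by
  classical
  rw [blockCoeff, ← mul_assoc, mul_inv_cancel₀ natCard_ne_zero_complex, one_mul,
    finsum_mem_eq_finite_toFinset_sum _ (Set.toFinite B),
    finsum_mem_eq_finite_toFinset_sum _ (Set.toFinite B), Nat.cast_sum]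
  exact Finset.sum_congr rfl fun χ _ => by
    rw [irr_apply_one, Complex.conj_natCast, Nat.cast_pow, pow_two]

theorem rank_blockKer (hM : IsPModular p M) (hB : IsPBlock M B) [DecidableEq G] :
    ((blockKer hM hB).map (red M)).rank ≤ ∑ᶠ χ ∈ B, charDegree (χ : G → ℂ) ^ 2 := by
  refine (rank_map_residue_le (locSubring M).subtype (blockKer hM hB)).trans (le_of_eq ?_)
  set W := (blockKer hM hB).map (locSubring M).subtype with hW
  have hWW : W * W = W := by rw [hW, ← Matrix.map_mul, blockKer_idem]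
  have hidem : W.toLin' * W.toLin' = W.toLin' := by
    rw [Module.End.mul_eq_comp, ← Matrix.toLin'_mul, hWW]
  have ht := LinearMap.IsProj.trace (LinearMap.IsIdempotentElem.isProj_range W.toLin' hidem)
  rw [Matrix.trace_toLin'_eq] at ht
  have htr : W.trace = (Nat.card G : ℂ) * blockCoeff B 1 := by
    simp [Matrix.trace, W, blockKer, Nat.card_eq_fintype_card]
  rw [htr, card_mul_blockCoeff_one, Nat.cast_inj] at ht
  rw [ht]
  rfl

theorem exists_coeff_ne (hM : IsPModular p M) {Q : Subgroup G}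
    {e : Set (IrrCharacter (Subgroup.centralizer (Q : Set G)))} (h : IsBrauerPairOf p M B Q e) :
    ∃ c ∈ Subgroup.centralizer (Q : Set G), ¬ MemLocalIdeal M (blockCoeff B c) := by
  classical
  by_contra hcon
  push Not at hcon
  obtain ⟨ξ, hξ⟩ := IsPBlock.nonempty h.1.2
  have h1 := memLocalIdeal_brauerOmega
    (IsLocInv.of_isRCentral (P := Q) (isRCentral_blockCoeff hM h.2.1)) hcon ξ
  apply not_memLocalIdeal_one (M := M)
  simpa using memLocalIdeal_sub h1 (h.2.2 ξ hξ)

/-- **A block of least degree sum is nilpotent.** -/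
theorem isNilpotentBlock_of_sum_sq_le (hM : IsPModular p M) (hB : IsPBlock M B) {D : Subgroup G}
    (hD : IsDefectGroup p M B D) {a d : ℕ} (ha : (Nat.card G).factorization p = a)
    (hd : Nat.card D = p ^ d)
    (hmin : ∑ᶠ χ ∈ B, charDegree (χ : G → ℂ) ^ 2 ≤ p ^ (2 * a - d)) :
    IsNilpotentBlock p M B := by
  classical
  haveI := Fact.mk hM.1
  haveI := resField_charP (M := M) hM
  refine ⟨hB, fun Q e hQ x hx _ hreg => ?_⟩
  obtain ⟨S, hQS⟩ := IsPGroup.exists_le_sylow hQ.1.1
  -- a defect group inside `S`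
  obtain ⟨S', hDS'⟩ := IsPGroup.exists_le_sylow (IsDefectGroup.isPGroup hD)
  obtain ⟨g₀, hg₀⟩ := MulAction.exists_smul_eq G S' S
  set D' := D.map (MulAut.conj g₀).toMonoidHom with hD'def
  have hD' : IsDefectGroup p M B D' := IsDefectGroup.map_conj hD g₀
  have hD'S : D' ≤ (S : Subgroup G) := by
    rintro _ ⟨z, hz, rfl⟩
    rw [← hg₀]
    exact ⟨z, hDS' hz, by simp⟩
  obtain ⟨g, hgcl, T, hDT⟩ := id hD'
  have hgC : g ∈ Subgroup.centralizer (D' : Set G) := hDT ▸ mem_centralizer_sylowSub T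
  -- the action
  letI : MulAction (↥(S : Subgroup G) × ↥(S : Subgroup G)) G :=
    { smul := fun s z => (s.1 : G) * z * (s.2 : G)⁻¹
      one_smul := fun z => by
        show ((1 : (S : Subgroup G)) : G) * z * ((1 : (S : Subgroup G)) : G)⁻¹ = z
        simp
      mul_smul := fun s t z => by
        show ((s.1 * t.1 : (S : Subgroup G)) : G) * z * ((s.2 * t.2 : (S : Subgroup G)) : G)⁻¹ =
          (s.1 : G) * ((t.1 : G) * z * (t.2 : G)⁻¹) * (s.2 : G)⁻¹
        simp [mul_assoc] }
  have hsmul : ∀ (s : ↥(S : Subgroup G) × ↥(S : Subgroup G)) (z : G),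
      s • z = (s.1 : G) * z * (s.2 : G)⁻¹ := fun _ _ => rfl
  have hH : IsPGroup p (↥(S : Subgroup G) × ↥(S : Subgroup G)) := by
    obtain ⟨n, hn⟩ := IsPGroup.iff_card.1 S.isPGroup'
    exact IsPGroup.of_card (n := n + n) (by rw [Nat.card_prod, hn, pow_add])
  let w : G → G → ResField M := fun z y => (blockKer hM hB).map (red M) z y
  have hinv : ∀ (s : ↥(S : Subgroup G) × ↥(S : Subgroup G)) z y, w (s • z) (s • y) = w z y := by
    intro s z y
    show red M _ = red M _
    congr 1
    refine Subtype.ext ?_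
    show blockCoeff B ((s.1 : G) * z * (s.2 : G)⁻¹ * ((s.1 : G) * y * (s.2 : G)⁻¹)⁻¹) =
      blockCoeff B (z * y⁻¹)
    rw [show (s.1 : G) * z * (s.2 : G)⁻¹ * ((s.1 : G) * y * (s.2 : G)⁻¹)⁻¹ =
      (s.1 : G) * (z * y⁻¹) * (s.1 : G)⁻¹ by group]
    exact isClassFunction_blockCoeff B _ _
  have hidem : ∀ z y, ∑ t, w z t * w t y = w z y := by
    intro z y
    show ∑ t, red M _ * red M _ = red M _
    rw [Finset.sum_congr rfl fun t _ => (map_mul (red M) _ _).symm, ← map_sum]
    congr 1
    exact (Matrix.mul_apply).symm.trans (congrFun (congrFun (blockKer_idem hM hB) z) y)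
  have hw : ∀ z y, w z y ≠ 0 ↔ ¬ MemLocalIdeal M (blockCoeff B (z * y⁻¹)) := fun z y =>
    not_congr red_eq_zero_iff
  let φ : D' →* ↥(S : Subgroup G) × ↥(S : Subgroup G) :=
    (Subgroup.inclusion hD'S).prod (Subgroup.inclusion hD'S)
  have hφcard : Nat.card φ.range = p ^ d := by
    rw [← hd, ← Blocks.card_map_conj D g₀]
    refine (Nat.card_congr (MonoidHom.ofInjective (f := φ) fun a b h => ?_).toEquiv).symm
    exact Subgroup.inclusion_injective hD'S (congrArg Prod.fst h)
  have hfixD : ∀ z, z ∈ Subgroup.centralizer (D' : Set G) → ∀ r ∈ φ.range, r • z = z := by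
    rintro z hz _ ⟨c, rfl⟩
    rw [hsmul]
    show (c : G) * z * (c : G)⁻¹ = z
    rw [Subgroup.mem_centralizer_iff.1 hz c c.2, mul_inv_cancel_right]
  have hrank : finrank (ResField M) (LinearMap.range (kerOp w)) ≤ φ.range.index := by
    have h1 : kerOp w = ((blockKer hM hB).map (red M)).mulVecLin := LinearMap.ext fun f => rfl
    rw [h1]
    refine (rank_blockKer hM hB).trans (hmin.trans (le_of_eq ?_))
    have h2 := φ.range.card_mul_index
    rw [hφcard, Nat.card_prod, S.card_eq_multiplicity, ha, ← pow_add] at h2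
    have hdle : d ≤ a + a := by
      refine (Nat.pow_dvd_pow_iff_le_right hM.1.one_lt).1 ?_
      exact ⟨_, h2.symm⟩
    refine (Nat.eq_of_mul_eq_mul_left (pow_pos hM.1.pos d) ?_).symm
    rw [h2, ← pow_add]
    congr 1
    omega
  have hbig : ∀ R' : Subgroup (↥(S : Subgroup G) × ↥(S : Subgroup G)), φ.range < R' → ∀ z y : G,
      (∀ r ∈ R', r • z = z) → (∀ r ∈ R', r • y = y) → w z y = 0 := by
    intro R' hlt z y hz hy
    by_contra hne
    let π : R' →* G := ((S : Subgroup G).subtype.comp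
      (MonoidHom.fst (S : Subgroup G) (S : Subgroup G))).comp R'.subtype
    have hπ : Function.Injective π := by
      rw [injective_iff_map_eq_one]
      intro r hr
      have h1 := hz r r.2
      rw [hsmul, show ((r.1.1 : (S : Subgroup G)) : G) = 1 from hr, one_mul] at h1
      refine Subtype.ext (Prod.ext (Subtype.ext hr) (Subtype.ext ?_))
      exact inv_eq_one.1 (mul_eq_left.1 h1)
    have hp : IsPGroup p π.range := by
      refine (hH.to_subgroup R').of_surjective π.rangeRestrict π.rangeRestrict_surjective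
    have hc : z * y⁻¹ ∈ Subgroup.centralizer (π.range : Set G) := by
      rw [Subgroup.mem_centralizer_iff]
      rintro _ ⟨r, rfl⟩
      have h1 := hz r r.2
      have h2 := hy r r.2
      rw [hsmul, mul_inv_eq_iff_eq_mul] at h1 h2
      show (r.1.1 : G) * (z * y⁻¹) = z * y⁻¹ * (r.1.1 : G)
      have h3 : y⁻¹ * (r.1.1 : G) = (r.1.2 : G) * y⁻¹ := by
        rw [inv_mul_eq_iff_eq_mul, ← mul_assoc, ← h2, mul_inv_cancel_right]
      rw [mul_assoc, h3, ← mul_assoc, ← mul_assoc, h1]
    have hle := (isConjLE_of_coeff hM hB hgcl T hp hc ((hw z y).1 hne)).card_le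
    rw [← Nat.card_congr (MonoidHom.ofInjective hπ).toEquiv] at hle
    have hlt' : Nat.card φ.range < Nat.card R' := by
      refine lt_of_le_of_ne (Subgroup.card_le_of_le hlt.le) fun h => hlt.ne ?_
      exact Subgroup.eq_of_le_of_card_ge hlt.le h.ge
    rw [hφcard, ← hd, ← Blocks.card_map_conj D g₀, ← hD'def] at hlt'
    rw [show (sylowSub T) = D' from hDT.symm] at hle
    omega
  obtain ⟨c, hc, hce⟩ := exists_coeff_ne hM hQ
  -- the twisted diagonal of `Q`
  have hxQ : ∀ q ∈ Q, x⁻¹ * q * x ∈ Q := fun q hq =>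
    (Subgroup.mem_normalizer_iff.1 hx _).2 (by simpa [mul_assoc] using hq)
  let ψ : Q →* ↥(S : Subgroup G) × ↥(S : Subgroup G) :=
    (Subgroup.inclusion hQS).prod ((Subgroup.inclusion hQS).comp
      { toFun := fun q => ⟨x⁻¹ * q * x, hxQ q q.2⟩
        map_one' := Subtype.ext (by simp)
        map_mul' := fun q r => Subtype.ext (by simp [mul_assoc]) })
  have hψfix : ∀ z, z * x⁻¹ ∈ Subgroup.centralizer (Q : Set G) → ∀ r ∈ ψ.range, r • z = z := by
    rintro z hz _ ⟨q, rfl⟩
    rw [hsmul]
    show (q : G) * z * (x⁻¹ * q * x)⁻¹ = z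
    calc (q : G) * z * (x⁻¹ * q * x)⁻¹ = ((q : G) * (z * x⁻¹)) * (q : G)⁻¹ * x := by group
      _ = _ := by
        rw [Subgroup.mem_centralizer_iff.1 hz q q.2, mul_inv_cancel_right, inv_mul_cancel_right]
  obtain ⟨h, hh⟩ := eq_zero_of_not_conj w hinv hidem hH φ.range hrank hbig
    (x₀ := (1 : G)) (y₀ := g) (hfixD 1 (one_mem _)) (hfixD g hgC)
    ((hw g 1).2 (by rw [inv_one, mul_one]; exact hgcl.2.1)) ψ.range
    (x := x) (y := c * x) (hψfix x (by rw [mul_inv_cancel]; exact one_mem _))
    (hψfix (c * x) (by rw [mul_inv_cancel_right]; exact hc))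
    ((hw (c * x) x).2 (by rw [mul_inv_cancel_right]; exact hce))
  -- the automorphism is made in `S`
  set s : G := (h.1 : G)
  set t : G := (h.2 : G)
  set u : G := s * t⁻¹ with hu
  have hm : x * u⁻¹ ∈ Subgroup.centralizer (Q : Set G) := by
    rw [Subgroup.mem_centralizer_iff]
    intro q hq
    obtain ⟨c', hc'⟩ := hh (ψ ⟨q, hq⟩) ⟨⟨q, hq⟩, rfl⟩
    have e1 : (c' : G) = s⁻¹ * q * s :=
      congrArg (fun r : ↥(S : Subgroup G) × ↥(S : Subgroup G) => (r.1 : G)) hc'
    have e2 : (c' : G) = t⁻¹ * (x⁻¹ * q * x) * t :=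
      congrArg (fun r : ↥(S : Subgroup G) × ↥(S : Subgroup G) => (r.2 : G)) hc'
    calc q * (x * u⁻¹) = x * ((x⁻¹ * q * x) * t) * s⁻¹ := by rw [hu]; group
      _ = x * (t * (c' : G)) * s⁻¹ := by rw [e2]; group
      _ = x * (t * (s⁻¹ * q * s)) * s⁻¹ := by rw [e1]
      _ = x * u⁻¹ * q := by rw [hu]; group
  have huN : u ∈ Subgroup.normalizer (Q : Set G) := by
    have := mul_mem (inv_mem (centralizer_le_normalizer' _ hm)) hx
    rwa [mul_inv_rev, inv_inv, inv_mul_cancel_right] at this
  set N := Subgroup.normalizer (Q : Set G)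
  let f := Q.normalizerMonoidHom
  have hker : ∀ y : N, f y = 1 ↔ (y : G) ∈ Subgroup.centralizer (Q : Set G) := fun y => by
    rw [← MonoidHom.mem_ker, Subgroup.normalizerMonoidHom_ker, Subgroup.mem_subgroupOf]
  have heq : f ⟨x, hx⟩ = f ⟨u, huN⟩ := by
    rw [← mul_inv_eq_one, ← map_inv, ← map_mul, hker]
    exact hm
  rw [← show ((⟨x, hx⟩ : N) : G) = x from rfl, ← hker, ← orderOf_eq_one_iff]
  obtain ⟨n, hn⟩ := IsPGroup.iff_orderOf.1 S.isPGroup' (h.1 * h.2⁻¹)
  have h1 : orderOf (f ⟨x, hx⟩) ∣ p ^ n := by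
    rw [heq]
    refine (orderOf_map_dvd f _).trans ?_
    rw [← hn, ← Subgroup.orderOf_coe, ← Subgroup.orderOf_coe (h.1 * h.2⁻¹)]
    exact dvd_rfl
  have h2 : orderOf (f ⟨x, hx⟩) ∣ orderOf x := by
    refine (orderOf_map_dvd f _).trans ?_
    rw [← Subgroup.orderOf_coe]
  obtain ⟨j, -, hj⟩ := (Nat.dvd_prime_pow hM.1).1 h1
  rw [hj] at h2 ⊢
  cases j with
  | zero => rfl
  | succ j => exact absurd ((dvd_pow_self p (Nat.succ_ne_zero j)).trans h2) hreg

end Cfsg.Agent.Lib.MinBlock
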