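import Mathlib.GroupTheory.PGroup
import Mathlib.GroupTheory.GroupAction.Quotient
import Mathlib.LinearAlgebra.FiniteDimensional.Lemmas
import Mathlib.Algebra.CharP.Algebra
import Cfsg.Agent.Lib.Modular.Weights
import Mathlib.GroupTheory.Sylow

/-!
# An equivariant idempotent of small rank on a permutation module of a `p`-group

If the rank is at most the index of a maximal stabilizer `R` at which the idempotent does not
vanish, then it vanishes at every subgroup not conjugate into `R`.
-/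

set_option autoImplicit false
set_option linter.unusedSectionVars false

namespace Cfsg.Agent.Lib.MinBlock

open Module MulAction

variable {k : Type*} [Field k] {p : ℕ} [Fact p.Prime] [CharP k p]
variable {H : Type*} [Group H] [Finite H] {X : Type*} [MulAction H X]

/-- An invariant function sums to the sum over the fixed points. -/
theorem sum_eq_sum_fixed {R : Subgroup H} (hR : IsPGroup p R) (s : Finset X)
    (hs : ∀ r ∈ R, ∀ z ∈ s, r • z ∈ s) (F : X → k) (hF : ∀ r ∈ R, ∀ z ∈ s, F (r • z) = F z)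
    [DecidablePred fun z : X => ∀ r ∈ R, r • z = z] :
    ∑ z ∈ s, F z = ∑ z ∈ s.filter (fun z => ∀ r ∈ R, r • z = z), F z := by
  classical
  rw [← Finset.sum_filter_add_sum_filter_not s (fun z => ∀ r ∈ R, r • z = z) F]
  refine add_eq_left.2 ?_
  set t := s.filter (fun z => ¬ ∀ r ∈ R, r • z = z) with ht
  rw [← Finset.sum_fiberwise_of_maps_to (s := t) (t := t.image F) (g := F)
    (fun x hx => Finset.mem_image_of_mem F hx) F]
  refine Finset.sum_eq_zero fun c _ => ?_
  rw [Finset.sum_congr rfl (fun x hx => (Finset.mem_filter.1 hx).2), Finset.sum_const]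
  have hmem : ∀ r : R, ∀ z ∈ t.filter (fun z => F z = c), r • z ∈ t.filter (fun z => F z = c) := by
    intro r z hz
    rw [Finset.mem_filter, ht, Finset.mem_filter] at hz ⊢
    refine ⟨⟨hs r r.2 z hz.1.1, fun h => hz.1.2 ?_⟩, (hF r r.2 z hz.1.1).trans hz.2⟩
    intro q hq
    have h1 := h ((r : H) * q * (r : H)⁻¹) (R.mul_mem (R.mul_mem r.2 hq) (R.inv_mem r.2))
    have h2 : ((r : H) * q * (r : H)⁻¹) • ((r : H) • z) = (r : H) • (q • z) := by
      rw [← mul_smul, ← mul_smul, inv_mul_cancel_right]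
    rw [show r • z = (r : H) • z from rfl, h2] at h1
    exact MulAction.injective (r : H) h1
  letI : MulAction R (t.filter fun z => F z = c : Finset X) :=
    { smul := fun r z => ⟨r • (z : X), hmem r z z.2⟩
      one_smul := fun z => Subtype.ext (one_smul R (z : X))
      mul_smul := fun a b z => Subtype.ext (mul_smul a b (z : X)) }
  have hcard := hR.card_modEq_card_fixedPoints (t.filter fun z => F z = c : Finset X)
  have hempty : IsEmpty (fixedPoints R (t.filter fun z => F z = c : Finset X)) := by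
    refine ⟨fun z => ?_⟩
    have hz := Finset.mem_filter.1 (Finset.mem_filter.1 z.1.2).1
    exact hz.2 fun r hr => congrArg Subtype.val (z.2 ⟨r, hr⟩)
  rw [Nat.card_eq_finsetCard, Nat.card_of_isEmpty] at hcard
  rw [nsmul_eq_mul, (CharP.cast_eq_zero_iff k p _).2 (Nat.modEq_zero_iff_dvd.1 hcard), zero_mul]

variable [Fintype X]

/-- A nonzero invariant space of functions has a nonzero invariant member. -/
theorem exists_invariant {N : Subgroup H} (hN : IsPGroup p N) (W : Submodule k (X → k))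
    (hW : ∀ n ∈ N, ∀ v ∈ W, (fun z => v (n⁻¹ • z)) ∈ W) {v₀ : X → k} (hv₀ : v₀ ∈ W)
    (h0 : v₀ ≠ 0) : ∃ v ∈ W, v ≠ 0 ∧ ∀ n ∈ N, ∀ z, v (n • z) = v z := by
  letI : Module (ZMod p) W := AddCommGroup.zmodModule (n := p) fun v => by
    rw [← Nat.cast_smul_eq_nsmul k, CharP.cast_eq_zero, zero_smul]
  obtain ⟨v, hv, hfix⟩ := Modular.exists_fixed hN
    (fun n : N => (⟨⟨fun v => ⟨fun z => v.1 ((n : H)⁻¹ • z), hW n n.2 v.1 v.2⟩, rfl⟩,
      fun _ _ => rfl⟩ : W →+ W))
    (fun a b v => Subtype.ext (funext fun z => by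
      show v.1 (((a * b : N) : H)⁻¹ • z) = v.1 ((b : H)⁻¹ • ((a : H)⁻¹ • z))
      rw [Subgroup.coe_mul, mul_inv_rev, mul_smul]))
    (fun v => Subtype.ext (funext fun z => by
      show v.1 (((1 : N) : H)⁻¹ • z) = v.1 z
      rw [OneMemClass.coe_one, inv_one, one_smul]))
    (w := (⟨v₀, hv₀⟩ : W)) (fun h => h0 (congrArg Subtype.val h))
  refine ⟨v.1, v.2, fun h => hv (Subtype.ext h), fun n hn z => ?_⟩
  have h1 := congrFun (congrArg Subtype.val (hfix ⟨n, hn⟩)) (n • z)
  rw [← h1]
  show v.1 (n⁻¹ • n • z) = v.1 z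
  rw [inv_smul_smul]

variable (w : X → X → k) (hinv : ∀ (h : H) x y, w (h • x) (h • y) = w x y)
  (hidem : ∀ x y, ∑ z, w x z * w z y = w x y)

include hinv hidem in
/-- An orbit with exact stabilizer `R` and nonzero row sum. -/
theorem exists_orbit_ne_zero (hH : IsPGroup p H) [DecidableEq X] (R : Subgroup H)
    (hbig : ∀ R' : Subgroup H, R < R' → ∀ x y : X, (∀ r ∈ R', r • x = x) → (∀ r ∈ R', r • y = y) →
      w x y = 0)
    {x₀ y₀ : X} (hx₀ : ∀ r ∈ R, r • x₀ = x₀) (hy₀ : ∀ r ∈ R, r • y₀ = y₀) (h0 : w y₀ x₀ ≠ 0) :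
    ∃ y z : X, (∀ r ∈ R, r • y = y) ∧ stabilizer H z = R ∧
      ∑ z' ∈ (Set.toFinite (orbit H z)).toFinset, w y z' ≠ 0 := by
  classical
  let Fx : X → Prop := fun z => ∀ r ∈ R, r • z = z
  let Y := Finset.univ.filter Fx
  set N := Subgroup.normalizer (R : Set H) with hNdef
  have hN : ∀ n ∈ N, ∀ z, Fx z → Fx (n • z) := fun n hn z hz r hr => by
    have h1 : n⁻¹ * r * n ∈ R := by
      rw [hNdef] at hn
      exact (Subgroup.mem_normalizer_iff.1 hn _).2 (by simpa [mul_assoc] using hr)
    conv_rhs => rw [← hz _ h1]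
    rw [← mul_smul, ← mul_smul]
    congr 1
    group
  have hN' : ∀ n ∈ N, ∀ z, Fx (n⁻¹ • z) → Fx z := fun n hn z hz => by
    simpa using hN n hn _ hz
  -- the truncated operator fixes a space containing a column
  let W : Submodule k (X → k) :=
    { carrier := {v | ∀ x, v x = if Fx x then ∑ z ∈ Y, w x z * v z else 0}
      add_mem' := fun {u v} hu hv x => by
        rw [Pi.add_apply, hu x, hv x]
        split_ifs <;> simp [mul_add, Finset.sum_add_distrib]
      zero_mem' := fun x => by simp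
      smul_mem' := fun c v hv x => by
        rw [Pi.smul_apply, hv x]
        split_ifs <;> simp [Finset.mul_sum, mul_left_comm] }
  have hWmem : ∀ v : X → k, v ∈ W ↔ ∀ x, v x = if Fx x then ∑ z ∈ Y, w x z * v z else 0 :=
    fun v => Iff.rfl
  let v₀ : X → k := fun x => if Fx x then w x x₀ else 0
  have hv₀ : v₀ ∈ W := by
    rw [hWmem]
    intro x
    by_cases hx : Fx x
    · simp only [v₀, if_pos hx]
      conv_lhs => rw [← hidem]
      rw [sum_eq_sum_fixed (hH.to_subgroup R) Finset.univ (fun _ _ _ _ => Finset.mem_univ _)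
        (fun z => w x z * w z x₀) fun r hr z _ => ?_]
      · exact Finset.sum_congr rfl fun z hz => by rw [if_pos (Finset.mem_filter.1 hz).2]
      · calc w x (r • z) * w (r • z) x₀ = w (r • x) (r • z) * w (r • z) (r • x₀) := by
              rw [hx r hr, hx₀ r hr]
          _ = _ := by rw [hinv, hinv]
    · simp only [v₀, if_neg hx]
  have hWN : ∀ n ∈ N, ∀ v ∈ W, (fun z => v (n⁻¹ • z)) ∈ W := by
    intro n hn v hv
    rw [hWmem] at hv ⊢
    intro x
    show v (n⁻¹ • x) = _
    rw [hv]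
    by_cases hx : Fx x
    · rw [if_pos hx, if_pos (hN _ (inv_mem hn) x hx)]
      refine Finset.sum_bij (fun z _ => n • z)
        (fun z hz => Finset.mem_filter.2 ⟨Finset.mem_univ _, hN n hn z (Finset.mem_filter.1 hz).2⟩)
        (fun a _ b _ h => MulAction.injective n h)
        (fun z hz => ⟨n⁻¹ • z, Finset.mem_filter.2 ⟨Finset.mem_univ _,
          hN _ (inv_mem hn) z (Finset.mem_filter.1 hz).2⟩, smul_inv_smul n z⟩) fun z _ => ?_
      rw [inv_smul_smul]
      conv_lhs => rw [← hinv n, smul_inv_smul]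
    · rw [if_neg hx, if_neg fun h => hx (hN' n hn x h)]
  obtain ⟨v, hvW, hvne, hvN⟩ := exists_invariant (hH.to_subgroup N) W hWN hv₀
    fun h => h0 (by simpa [v₀, show Fx y₀ from hy₀] using congrFun h y₀)
  rw [hWmem] at hvW
  -- it vanishes off the points with exact stabilizer `R`
  have hsupp : ∀ x, v x ≠ 0 → stabilizer H x = R := by
    intro x hx
    have hFx : Fx x := by
      by_contra h
      exact hx (by rw [hvW x, if_neg h])
    by_contra hne
    have hlt : R < stabilizer H x := lt_of_le_of_ne (fun r hr => hFx r hr) (Ne.symm hne)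
    set S := stabilizer H x
    have hlt' : R.subgroupOf S < ⊤ := by
      rw [lt_top_iff_ne_top, Ne, Subgroup.subgroupOf_eq_top]
      exact fun h => (lt_irrefl R) (lt_of_lt_of_le hlt h)
    haveI : Group.IsNilpotent S := (hH.to_subgroup S).isNilpotent
    have hgrow := Group.normalizerCondition_of_isNilpotent _ hlt'
    obtain ⟨t, htN, htR⟩ := SetLike.exists_of_lt hgrow
    have htN' : (t : H) ∈ N := by
      rw [hNdef, Subgroup.mem_normalizer_iff]
      intro r
      have h1 := Subgroup.mem_normalizer_iff.1 htN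
      constructor
      · intro hr
        exact Subgroup.mem_subgroupOf.1 ((h1 ⟨r, hlt.le hr⟩).1 (Subgroup.mem_subgroupOf.2 hr))
      · intro hr
        have hrS : r ∈ S := by
          have := S.mul_mem (S.mul_mem (S.inv_mem t.2) (hlt.le hr)) t.2
          simpa [mul_assoc] using this
        exact Subgroup.mem_subgroupOf.1 ((h1 ⟨r, hrS⟩).2 (Subgroup.mem_subgroupOf.2 hr))
    set R' := S ⊓ N with hR'
    have hRR' : R < R' := lt_of_le_of_ne (le_inf hlt.le Subgroup.le_normalizer) fun h =>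
      htR (Subgroup.mem_subgroupOf.2 (h ▸ ⟨t.2, htN'⟩))
    refine hx ?_
    rw [hvW x, if_pos hFx, sum_eq_sum_fixed (hH.to_subgroup R') Y
      (fun r hr z hz => Finset.mem_filter.2 ⟨Finset.mem_univ _, hN r hr.2 z (Finset.mem_filter.1 hz).2⟩)
      (fun z => w x z * v z) fun r hr z _ => ?_]
    · refine Finset.sum_eq_zero fun z hz => ?_
      rw [hbig R' hRR' x z (fun r hr => hr.1) (Finset.mem_filter.1 hz).2, zero_mul]
    · rw [hvN r hr.2]
      conv_lhs => rw [← show r • x = x from hr.1]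
      rw [hinv]
  obtain ⟨y, hy⟩ : ∃ y, v y ≠ 0 := Function.ne_iff.1 hvne
  have hFy : Fx y := fun r hr => by
    rw [← hsupp y hy] at hr
    exact hr
  by_contra hcon
  push Not at hcon
  refine hy ?_
  rw [hvW y, if_pos hFy]
  let Qt := Quotient (orbitRel H X)
  haveI := Fintype.ofFinite Qt
  rw [← Finset.sum_fiberwise Y (fun z => (Quotient.mk _ z : Qt)) (fun z => w y z * v z)]
  refine Finset.sum_eq_zero fun q _ => ?_
  by_cases hall : ∀ z ∈ Y.filter (fun z => (Quotient.mk _ z : Qt) = q), v z = 0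
  · exact Finset.sum_eq_zero fun z hz => by rw [hall z hz, mul_zero]
  push Not at hall
  obtain ⟨z, hz, hvz⟩ := hall
  have hzs := hsupp z hvz
  obtain ⟨hzY, rfl⟩ := Finset.mem_filter.1 hz
  have hset : Y.filter (fun z' => (Quotient.mk _ z' : Qt) = Quotient.mk _ z) =
      (Set.toFinite (orbit H z)).toFinset.filter Fx := by
    ext z'
    simp only [Finset.mem_filter, Y, Finset.mem_univ, true_and, Set.Finite.mem_toFinset,
      Quotient.eq, orbitRel_apply]
    exact and_comm
  have hconst : ∀ z' ∈ (Set.toFinite (orbit H z)).toFinset.filter Fx, v z' = v z := by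
    intro z' hz'
    obtain ⟨hz'o, hz'F⟩ := Finset.mem_filter.1 hz'
    obtain ⟨h, rfl⟩ := (Set.Finite.mem_toFinset _).1 hz'o
    refine hvN h ?_ z
    have hsub : R.map (MulAut.conj h⁻¹).toMonoidHom ≤ R := by
      rintro _ ⟨r, hr, rfl⟩
      show h⁻¹ * r * h⁻¹⁻¹ ∈ R
      rw [← hzs, inv_inv, mem_stabilizer_iff, mul_smul, mul_smul]
      rw [show r • h • z = h • z from hz'F r hr, inv_smul_smul]
    have heq := Subgroup.eq_of_le_of_card_ge hsub
      (Nat.card_congr (R.equivMapOfInjective _ (MulAut.conj h⁻¹).injective).toEquiv).le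
    rw [hNdef, ← Subgroup.inv_mem_iff, Subgroup.mem_normalizer_iff]
    intro r
    constructor
    · intro hr
      exact heq ▸ ⟨r, hr, rfl⟩
    · intro hr
      obtain ⟨s, hs, hse⟩ := (heq.symm ▸ hr : h⁻¹ * r * h⁻¹⁻¹ ∈ R.map (MulAut.conj h⁻¹).toMonoidHom)
      have : s = r := (MulAut.conj h⁻¹).injective hse
      exact this ▸ hs
  rw [hset, Finset.sum_congr rfl fun z' hz' => by rw [hconst z' hz'], ← Finset.sum_mul,
    ← sum_eq_sum_fixed (hH.to_subgroup R) (Set.toFinite (orbit H z)).toFinset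
      (fun r _ z' hz' => by
        rw [Set.Finite.mem_toFinset] at hz' ⊢
        exact (MulAction.mem_orbit_iff.2 (by
          obtain ⟨h, rfl⟩ := hz'
          exact ⟨r * h, mul_smul r h z⟩)))
      (fun z' => w y z') (fun r hr z' _ => by
        show w y (r • z') = w y z'
        conv_lhs => rw [← hFy r hr]
        exact hinv r y z'),
    hcon y z hFy hzs, zero_mul]

/-- The operator of a kernel. -/
def kerOp : (X → k) →ₗ[k] (X → k) where
  toFun f x := ∑ z, w x z * f z
  map_add' f g := funext fun x => by simp [mul_add, Finset.sum_add_distrib]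
  map_smul' c f := funext fun x => by simp [Finset.mul_sum, mul_left_comm]

include hinv hidem in
/-- **The idempotent lives on one orbit.** -/
theorem eq_zero_of_not_conj (hH : IsPGroup p H) [DecidableEq X] (R : Subgroup H)
    (hrank : finrank k (LinearMap.range (kerOp w)) ≤ R.index)
    (hbig : ∀ R' : Subgroup H, R < R' → ∀ x y : X, (∀ r ∈ R', r • x = x) → (∀ r ∈ R', r • y = y) →
      w x y = 0)
    {x₀ y₀ : X} (hx₀ : ∀ r ∈ R, r • x₀ = x₀) (hy₀ : ∀ r ∈ R, r • y₀ = y₀) (h0 : w y₀ x₀ ≠ 0)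
    (Q : Subgroup H) {x y : X} (hxQ : ∀ r ∈ Q, r • x = x) (hyQ : ∀ r ∈ Q, r • y = y)
    (hne : w y x ≠ 0) : ∃ h : H, ∀ r ∈ Q, h⁻¹ * r * h ∈ R := by
  classical
  obtain ⟨y₁, z₁, hy₁, hz₁, hε⟩ := exists_orbit_ne_zero w hinv hidem hH R hbig hx₀ hy₀ h0
  set O := (Set.toFinite (orbit H z₁)).toFinset with hOdef
  have hO : ∀ z, z ∈ O ↔ z ∈ orbit H z₁ := fun z => Set.Finite.mem_toFinset _
  have hOsmul : ∀ (h : H) z, z ∈ O → h • z ∈ O := fun h z hz => by
    rw [hO] at hz ⊢
    obtain ⟨g, rfl⟩ := hz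
    exact ⟨h * g, mul_smul h g z₁⟩
  have hz₁O : z₁ ∈ O := (hO z₁).2 (mem_orbit_self z₁)
  choose g hg using fun z : O => MulAction.mem_orbit_iff.1 ((hO z.1).1 z.2)
  let sp : H → O → O := fun h z => ⟨h • z.1, hOsmul h z.1 z.2⟩
  have hgy : ∀ (h : H) (z : O), g (sp h z) • y₁ = h • g z • y₁ := fun h z => by
    have h1 : (g (sp h z))⁻¹ * (h * g z) ∈ R := by
      rw [← hz₁, mem_stabilizer_iff, mul_smul, mul_smul, hg z, inv_smul_eq_iff, hg]
    conv_lhs => rw [← hy₁ _ h1]
    rw [← mul_smul, ← mul_smul, mul_inv_cancel_left]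
  -- the columns of the orbit are independent
  let col : O → (X → k) := fun z x => w x z.1
  have hli : LinearIndependent k col := by
    rw [Fintype.linearIndependent_iff]
    intro c hc z
    let ext0 : (O → k) → X → k := fun c z => if h : z ∈ O then c ⟨z, h⟩ else 0
    let U : Submodule k (X → k) :=
      { carrier := {f | (∀ z, z ∉ O → f z = 0) ∧ ∀ a : O, ∑ z ∈ O, w (g a • y₁) z * f z = 0}
        add_mem' := fun {u v} hu hv => ⟨fun z hz => by simp [hu.1 z hz, hv.1 z hz],
          fun a => by simp [mul_add, Finset.sum_add_distrib, hu.2 a, hv.2 a]⟩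
        zero_mem' := ⟨fun _ _ => rfl, fun a => by simp⟩
        smul_mem' := fun r v hv => ⟨fun z hz => by simp [hv.1 z hz], fun a => by
          simp [← mul_assoc, mul_comm _ r]
          simp [mul_assoc, ← Finset.mul_sum, hv.2 a]⟩ }
    have hcU : ext0 c ∈ U := by
      refine ⟨fun z hz => by simp [ext0, hz], fun a => ?_⟩
      have h1 := congrFun hc (g a • y₁)
      rw [Finset.sum_apply, Pi.zero_apply] at h1
      rw [← h1, ← Finset.sum_coe_sort O]
      refine Finset.sum_congr rfl fun z _ => ?_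
      simp [ext0, col, mul_comm]
    by_contra hne'
    have hext : ext0 c ≠ 0 := fun h => hne' (by simpa [ext0, z.2] using congrFun h z.1)
    have hUinv : ∀ n ∈ (⊤ : Subgroup H), ∀ f ∈ U, (fun z => f (n⁻¹ • z)) ∈ U := by
      intro n _ f hf
      refine ⟨fun z hz => hf.1 _ fun h => hz (by simpa using hOsmul n _ h), fun a => ?_⟩
      rw [← hf.2 (sp n⁻¹ a)]
      refine Finset.sum_bij (fun z _ => n⁻¹ • z) (fun z hz => hOsmul _ z hz)
        (fun a _ b _ h => MulAction.injective n⁻¹ h)
        (fun z hz => ⟨n • z, hOsmul n z hz, inv_smul_smul n z⟩) fun z _ => ?_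
      rw [hgy, hinv]
    obtain ⟨f, hf, hfne, hfinv⟩ := exists_invariant (hH.to_subgroup ⊤) U hUinv hcU hext
    have hconst : ∀ z ∈ O, f z = f z₁ := fun z hz => by
      obtain ⟨h, rfl⟩ := (hO z).1 hz
      exact hfinv h (Subgroup.mem_top h) z₁
    have hg1 : g ⟨z₁, hz₁O⟩ • y₁ = y₁ := hy₁ _ (by rw [← hz₁, mem_stabilizer_iff]; exact hg _)
    have h2 := hf.2 ⟨z₁, hz₁O⟩
    rw [hg1, Finset.sum_congr rfl (fun z hz => by rw [hconst z hz]), ← Finset.sum_mul,
      mul_eq_zero, or_iff_right hε] at h2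
    refine hfne (funext fun z => ?_)
    by_cases hz : z ∈ O
    · rw [hconst z hz, h2]; rfl
    · exact hf.1 z hz
  -- and they span every column
  have hmem : ∀ x, (fun x' => w x' x) ∈ LinearMap.range (kerOp w) := fun x =>
    ⟨Pi.single x 1, funext fun x' => by simp [kerOp, Pi.single_apply]⟩
  have hspan : Submodule.span k (Set.range col) = LinearMap.range (kerOp w) := by
    refine Submodule.eq_of_le_of_finrank_le (Submodule.span_le.2 ?_) ?_
    · rintro _ ⟨z, rfl⟩
      exact hmem z.1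
    · rw [finrank_span_eq_card hli, Fintype.card_coe, hOdef,
        ← Nat.card_eq_card_finite_toFinset, Nat.card_congr (orbitEquivQuotientStabilizer H z₁), hz₁]
      exact hrank
  obtain ⟨c, hc⟩ : ∃ c : O → k, ∑ z, c z • col z = fun x' => w x' x :=
    (Submodule.mem_span_range_iff_exists_fun k).1 (hspan ▸ hmem x)
  have hcQ : ∀ r ∈ Q, ∀ z : O, c (sp r z) = c z := by
    intro r hr z
    refine Fintype.linearIndependent_iffₛ.1 hli (fun z => c (sp r z)) c (funext fun x' => ?_) z
    have h1 := congrFun hc x'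
    have h2 := congrFun hc (r • x')
    simp only [Finset.sum_apply, Pi.smul_apply, smul_eq_mul, col] at h1 h2 ⊢
    rw [h1, ← hinv r x' x, hxQ r hr, ← h2]
    exact Fintype.sum_equiv ⟨sp r, sp r⁻¹, fun a => Subtype.ext (inv_smul_smul r a.1),
      fun a => Subtype.ext (smul_inv_smul r a.1)⟩ _ _ fun a => by
        show _ = c (sp r a) * w (r • x') (r • a.1)
        rw [hinv]
  by_contra hcon
  push Not at hcon
  apply hne
  let F : X → k := fun z => if h : z ∈ O then c ⟨z, h⟩ * w y z else 0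
  have hy' : w y x = ∑ z ∈ O, F z := by
    have h1 := congrFun hc y
    simp only [Finset.sum_apply, Pi.smul_apply, smul_eq_mul, col] at h1
    rw [← h1, ← Finset.sum_coe_sort O F]
    exact Finset.sum_congr rfl fun z _ => by simp [F, z.2]
  rw [hy', sum_eq_sum_fixed (hH.to_subgroup Q) O (fun r _ z hz => hOsmul r z hz) F fun r hr z hz => ?_]
  · refine Finset.sum_eq_zero fun z hz => ?_
    obtain ⟨hzO, hzQ⟩ := Finset.mem_filter.1 hz
    exfalso
    obtain ⟨r, hr, hrR⟩ := hcon (g ⟨z, hzO⟩)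
    refine hrR ?_
    rw [← hz₁, mem_stabilizer_iff, mul_smul, mul_smul, hg, hzQ r hr, inv_smul_eq_iff, hg]
  · show F (r • z) = F z
    simp only [F, dif_pos hz, dif_pos (hOsmul r z hz)]
    rw [show c ⟨r • z, hOsmul r z hz⟩ = c ⟨z, hz⟩ from hcQ r hr ⟨z, hz⟩]
    congr 1
    conv_lhs => rw [← hyQ r hr]
    exact hinv r y z

end Cfsg.Agent.Lib.MinBlock
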